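import Groth.Agent.H29RR.SubBundle
import Groth.Agent.H29RR.BundleTwist
import Groth.Agent.H25Par.ParHom
import Groth.Agent.H10Coh.ProjFormulaFLF
import Groth.Agent.H29RR.Twist
import Groth.Agent.H26Gr.GrSub

/-!
# Semistable Higgs bundles on a curve: subobjects of the same slope
-/

set_option autoImplicit false
set_option linter.style.haveILetI false
set_option linter.unusedSectionVars false
set_option backward.isDefEq.respectTransparency false

universe u

open CategoryTheory CategoryTheory.Limits AlgebraicGeometry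

namespace Groth.Agent.H7Higgs

open Groth.Agent Groth.Agent.H29RR

attribute [local instance 10000] H10Coh.hasSheafifyAb H10Coh.hasWeakSheafifyAb H10Coh.hasExtAb H10Coh.enoughInjAb

variable {X : Scheme.{u}}

/-- `j ⊗ L`. -/
noncomputable abbrev tw (L : X.Modules) {A B : X.Modules} (j : A ⟶ B) :
    CohB1.tensorMod A L ⟶ CohB1.tensorMod B L := (H10Coh.PF.TR L).map j

theorem tw_eq (L : X.Modules) {A B : X.Modules} (j : A ⟶ B) :
    tw L j = (CohB1.sheafifyMod X).map
      (MonoidalCategoryStruct.whiskerRight (C := CohB1.PMod X) j.val (CohB1.toPMod L)) := rfl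

variable {k : Type u} [Field k] [X.Over (Spec (CommRingCat.of k))]
  [IsProper (X ↘ Spec (CommRingCat.of k))] [IsIntegral X] [Smooth (X ↘ Spec (CommRingCat.of k))]

variable (k) in
/-- Higgs semistability. -/
def SS (L : X.Modules) {E : X.Modules} (r : ℕ) (φ : E ⟶ CohB1.tensorMod E L) : Prop :=
  ∀ (G : X.Modules) (s : ℕ) (j : G ⟶ E) (ψ : G ⟶ CohB1.tensorMod G L), Mono j → 0 < s →
    FlatMod.IsFinLocFreeOfRank s G → ψ ≫ tw L j = j ≫ φ →
    Curv2.deg k X G s * (r : ℤ) ≤ Curv2.deg k X E r * (s : ℤ)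

variable {L : X.Modules}

theorem flat_of_isInvertible (hL : PicF.IsInvertible L) : FlatMod.IsFlat L :=
  H16Derived.KFlat.Stalk.isFlat_of_isFinLocFree (H28Pinch.isFinLocFree_of_isInvertible hL)

/-- Twisting a kernel gives a kernel. -/
theorem exists_lift (hL : PicF.IsInvertible L) {S : ShortComplex X.Modules} (hS : S.ShortExact)
    {W : X.Modules} (h : W ⟶ CohB1.tensorMod S.X₂ L) (w : h ≫ tw L S.g = 0) :
    ∃ ψ : W ⟶ CohB1.tensorMod S.X₁ L, ψ ≫ tw L S.f = h := by
  have hT := H10Coh.PF.shortExact_TR (flat_of_isInvertible hL) hS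
  haveI := hT.mono_f
  exact ⟨hT.exact.lift h w, hT.exact.lift_f h w⟩

theorem mono_tw (hL : PicF.IsInvertible L) {A B : X.Modules} (j : A ⟶ B) [Mono j] : Mono (tw L j) := by
  have hS : (ShortComplex.mk j (cokernel.π j) (cokernel.condition j)).ShortExact :=
    { exact := ShortComplex.exact_cokernel _ }
  exact (H10Coh.PF.shortExact_TR (flat_of_isInvertible hL) hS).mono_f

variable {E : X.Modules} {r : ℕ} {φ : E ⟶ CohB1.tensorMod E L}

/-- An invariant subbundle of slope that of the bundle has bundle quotient. -/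
theorem rank_cokernel (hdim : topologicalKrullDim X ≤ 1) (hL : PicF.IsInvertible L)
    (hE : FlatMod.IsFinLocFreeOfRank r E) (hss : SS k L r φ)
    {F : X.Modules} {r' : ℕ} (hF : FlatMod.IsFinLocFreeOfRank r' F) (i : F ⟶ E) [Mono i]
    (ψF : F ⟶ CohB1.tensorMod F L) (hψF : ψF ≫ tw L i = i ≫ φ)
    (hslope : Curv2.deg k X F r' * (r : ℤ) = Curv2.deg k X E r * (r' : ℤ)) :
    FlatMod.IsFinLocFreeOfRank (r - r') (cokernel i) := by
  haveI := isNoetherian_of_proper (k := k) (X := X)
  obtain ⟨G', j, ι', hj, hι', hfac, hG', hC⟩ := H25Par.exists_saturation k hdim hF hE i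
  haveI := hj
  haveI := hι'
  obtain ⟨c, hc⟩ := H25Par.exists_rank k hdim (H16Derived.KFlat.Stalk.isCoh_of_isFinLocFree hC)
    (H25Par.isTorsionFree_of_locFree hC)
  have hS : (ShortComplex.mk ι' (cokernel.π ι') (cokernel.condition ι')).ShortExact :=
    { exact := ShortComplex.exact_cokernel _ }
  obtain ⟨hrc, -⟩ := deg_add_of_shortExact (k := k) hS hG' hE hc
  have hdle : Curv2.deg k X F r' ≤ Curv2.deg k X G' r' := by
    have := H25Par.euler_le_of_mono (k := k) hdim hF hG' j
    simp only [Curv2.deg]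
    omega
  have hκ : ι' ≫ φ ≫ tw L (cokernel.π ι') = 0 := by
    obtain ⟨a, b, hK, -, hab, -, hb0, -, -⟩ :=
      exists_image_data (k := k) hdim hG' (rank_tensor hc hL) (ι' ≫ φ ≫ tw L (cokernel.π ι'))
    have h0 : j ≫ ι' ≫ φ ≫ tw L (cokernel.π ι') = 0 := by
      rw [reassoc_of% hfac, ← reassoc_of% hψF, ← Functor.map_comp, ← hfac, Category.assoc, cokernel.condition,
        comp_zero, Functor.map_zero, comp_zero]
    let jK := kernel.lift _ j h0
    haveI : Mono jK := mono_of_mono_fac (kernel.lift_ι _ _ _)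
    have hle := H25Par.rank_le_of_mono (genericPoint X) hF hK jK
    by_contra hne
    have := hb0 hne
    omega
  haveI : IsIso j := by
    refine isIso_of_deg_eq (k := k) hdim hF hG' j (le_antisymm hdle ?_)
    rcases Nat.eq_zero_or_pos r' with h | h
    · subst h
      rw [deg_eq_zero_of_rank_zero (k := k) hG', deg_eq_zero_of_rank_zero (k := k) hF]
    · obtain ⟨ψ', hψ'⟩ := exists_lift hL hS (ι' ≫ φ) (by rw [Category.assoc]; exact hκ)
      have h1 := hss G' r' ι' ψ' inferInstance h hG' hψ'
      rw [← hslope] at h1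
      have hr : (0 : ℤ) < r := by omega
      exact le_of_mul_le_mul_right h1 hr
  have e : cokernel i ≅ cokernel ι' := cokernelIsoOfEq hfac.symm ≪≫ cokernelEpiComp j ι'
  rw [show r - r' = c by omega]
  exact H26Gr.isFinLocFreeOfRank_of_iso e.symm hc

/-- The quotient by an invariant subbundle of the same slope is semistable. -/
theorem ss_cokernel (hdim : topologicalKrullDim X ≤ 1) (hL : PicF.IsInvertible L)
    (hE : FlatMod.IsFinLocFreeOfRank r E) (hss : SS k L r φ)
    {F : X.Modules} {r' : ℕ} (hF : FlatMod.IsFinLocFreeOfRank r' F) (i : F ⟶ E) [Mono i]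
    (ψF : F ⟶ CohB1.tensorMod F L) (hψF : ψF ≫ tw L i = i ≫ φ)
    (hslope : Curv2.deg k X F r' * (r : ℤ) = Curv2.deg k X E r * (r' : ℤ))
    (φ' : cokernel i ⟶ CohB1.tensorMod (cokernel i) L) (hφ' : cokernel.π i ≫ φ' = φ ≫ tw L (cokernel.π i)) :
    SS k L (r - r') φ' := by
  intro G s j ψ hj hs hG hψ
  haveI := hj
  haveI := isNoetherian_of_proper (k := k) (X := X)
  have hC := rank_cokernel (k := k) hdim hL hE hss hF i ψF hψF hslope
  have hS : (ShortComplex.mk i (cokernel.π i) (cokernel.condition i)).ShortExact :=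
    { exact := ShortComplex.exact_cokernel _ }
  obtain ⟨hrr, hdE⟩ := deg_add_of_shortExact (k := k) hS hF hE hC
  let l := pullback.fst (cokernel.π i) j
  let ι : F ⟶ pullback (cokernel.π i) j := pullback.lift i 0 (by rw [cokernel.condition, zero_comp])
  have hι : ι ≫ l = i := pullback.lift_fst _ _ _
  haveI : Mono ι := mono_of_mono_fac hι
  have hT : (ShortComplex.mk ι (pullback.snd (cokernel.π i) j) (pullback.lift_snd _ _ _)).ShortExact :=
    { exact := ShortComplex.exact_of_f_is_kernel _ (KernelFork.IsLimit.ofι' _ _ fun {A} x hx => by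
        have hx' : (x ≫ l) ≫ cokernel.π i = 0 := by
          rw [Category.assoc, pullback.condition, ← Category.assoc]
          show (x ≫ pullback.snd (cokernel.π i) j) ≫ j = 0
          rw [show x ≫ pullback.snd (cokernel.π i) j = 0 from hx, zero_comp]
        exact ⟨hS.exact.lift _ hx', by
          rw [← cancel_mono l, Category.assoc, hι]
          exact hS.exact.lift_f _ hx'⟩) }
  have hPc : Coh.IsCoh (pullback (cokernel.π i) j) :=
    H10Coh.isCoh_X₂ hT (isCoh_of_rank hF) (isCoh_of_rank hG)
  obtain ⟨p, hP⟩ := H25Par.exists_rank k hdim hPc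
    (H25Euler.isTorsionFree_of_mono l (H25Par.isTorsionFree_of_locFree (locFree_of_rank hE)))
  obtain ⟨hp, hdP⟩ := deg_add_of_shortExact (k := k) hT hF hP hG
  let q := cokernel.π i ≫ cokernel.π j
  haveI : Epi q := epi_comp _ _
  have hSj : (ShortComplex.mk j (cokernel.π j) (cokernel.condition j)).ShortExact :=
    { exact := ShortComplex.exact_cokernel _ }
  have hQ : (ShortComplex.mk l q (by rw [← Category.assoc, pullback.condition, Category.assoc, cokernel.condition,
      comp_zero])).ShortExact :=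
    { exact := ShortComplex.exact_of_f_is_kernel _ (KernelFork.IsLimit.ofι' _ _ fun {A} x hx => by
        have hx' : (x ≫ cokernel.π i) ≫ cokernel.π j = 0 := by rw [Category.assoc]; exact hx
        exact ⟨pullback.lift x (hSj.exact.lift _ hx') (hSj.exact.lift_f _ hx').symm, pullback.lift_fst _ _ _⟩) }
  obtain ⟨ψP, hψP⟩ := exists_lift hL hQ (l ≫ φ) (by
    show (l ≫ φ) ≫ (H10Coh.PF.TR L).map (cokernel.π i ≫ cokernel.π j) = 0
    rw [Functor.map_comp, Category.assoc, ← reassoc_of% hφ', ← Category.assoc, pullback.condition, Category.assoc,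
      ← reassoc_of% hψ, ← Functor.map_comp, cokernel.condition, Functor.map_zero, comp_zero, comp_zero])
  have h1 := hss _ p l ψP inferInstance (by omega) hP hψP
  rw [hdP] at h1
  have hrr' : ((r - r' : ℕ) : ℤ) = r - r' := by omega
  have hdC : Curv2.deg k X (cokernel i) (r - r') = Curv2.deg k X E r - Curv2.deg k X F r' := by
    have : Curv2.deg k X E r = Curv2.deg k X F r' + Curv2.deg k X (cokernel i) (r - r') := hdE
    omega
  rw [hrr', hdC]
  have hr : (0 : ℤ) < r := by
    have := H25Par.rank_le_of_mono (genericPoint X) hG hC j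
    omega
  refine le_of_mul_le_mul_right ?_ hr
  subst hp
  push_cast at h1
  nlinarith [mul_le_mul_of_nonneg_left h1 (show (0 : ℤ) ≤ r - r' by omega), hslope]

end Groth.Agent.H7Higgs
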