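import Groth.Agent.H7Higgs.Basic

/-!
# Opposite filtrations of semistable Higgs bundles
-/

set_option autoImplicit false
set_option linter.style.haveILetI false
set_option linter.unusedSectionVars false
set_option backward.isDefEq.respectTransparency false

universe u

open CategoryTheory CategoryTheory.Limits AlgebraicGeometry

namespace Groth.Agent.H7Higgs

open Groth.Agent Groth.Agent.H29RR

variable {X : Scheme.{u}} {k : Type u} [Field k] [X.Over (Spec (CommRingCat.of k))]
  [IsProper (X ↘ Spec (CommRingCat.of k))] [IsIntegral X] [Smooth (X ↘ Spec (CommRingCat.of k))]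
  {L : X.Modules}

/-- The slope inequality for a Higgs subbundle of any rank. -/
theorem SS.le {E G : X.Modules} {r s : ℕ} {φ : E ⟶ CohB1.tensorMod E L} (hss : SS k L r φ)
    (hG : FlatMod.IsFinLocFreeOfRank s G) (j : G ⟶ E) [Mono j] (ψ : G ⟶ CohB1.tensorMod G L)
    (hψ : ψ ≫ tw L j = j ≫ φ) :
    Curv2.deg k X G s * (r : ℤ) ≤ Curv2.deg k X E r * (s : ℤ) := by
  rcases Nat.eq_zero_or_pos s with h | h
  · subst h
    rw [deg_eq_zero_of_rank_zero (k := k) hG]
    simp
  · exact hss G s j ψ inferInstance h hG hψ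

/-- A Higgs subbundle of the slope of a semistable one is semistable. -/
theorem ss_sub {E G : X.Modules} {r s : ℕ} {φ : E ⟶ CohB1.tensorMod E L} (hr : 0 < r) (hss : SS k L r φ)
    (j : G ⟶ E) [Mono j] (ψ : G ⟶ CohB1.tensorMod G L) (hψ : ψ ≫ tw L j = j ≫ φ)
    (hslope : Curv2.deg k X G s * (r : ℤ) = Curv2.deg k X E r * (s : ℤ)) : SS k L s ψ := by
  intro H t l χ hl ht hH hχ
  haveI := hl
  have h1 := hss H t (l ≫ j) χ inferInstance ht hH (by
    show χ ≫ (H10Coh.PF.TR L).map (l ≫ j) = _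
    rw [Functor.map_comp, reassoc_of% hχ, hψ, Category.assoc])
  refine le_of_mul_le_mul_right ?_ (show (0 : ℤ) < r by omega)
  calc Curv2.deg k X H t * (s : ℤ) * r = Curv2.deg k X H t * r * s := by ring
    _ ≤ Curv2.deg k X E r * t * s := mul_le_mul_of_nonneg_right h1 (by positivity)
    _ = Curv2.deg k X E r * s * t := by ring
    _ = Curv2.deg k X G s * t * r := by rw [← hslope]; ring

/-- The sum of the Euler characteristics along opposite chains is constant. -/
theorem euler_opposite (n : ℕ) (Es Fs : ℕ → X.Modules) (hEs : ∀ i, Coh.IsCoh (Es i)) (hFs : ∀ i, Coh.IsCoh (Fs i))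
    (a : ∀ i, Es i ⟶ Es (i + 1)) (ha : ∀ i, Mono (a i)) (b : ∀ i, Fs (i + 1) ⟶ Fs i) (hb : ∀ i, Mono (b i))
    (hopp : ∀ i, i < n → Nonempty (cokernel (a i) ≅ cokernel (b i))) {i : ℕ} (hi : i ≤ n) :
    Curv2.euler k X (Es i) + Curv2.euler k X (Fs i) = Curv2.euler k X (Es n) + Curv2.euler k X (Fs n) := by
  haveI := isNoetherian_of_proper (k := k) (X := X)
  induction hi using Nat.decreasingInduction with
  | self => rfl
  | of_succ m hm ih =>
    haveI := ha m
    haveI := hb m
    have hA : (ShortComplex.mk (a m) (cokernel.π (a m)) (cokernel.condition (a m))).ShortExact :=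
      { exact := ShortComplex.exact_cokernel _ }
    have hB : (ShortComplex.mk (b m) (cokernel.π (b m)) (cokernel.condition (b m))).ShortExact :=
      { exact := ShortComplex.exact_cokernel _ }
    have h1 := H25Euler.euler_add (k := k) hA (hEs m) (hEs (m + 1))
      (H10Coh.isCoh_cokernel (a m) (hEs m).1 (hEs (m + 1)))
    have h2 := H25Euler.euler_add (k := k) hB (hFs (m + 1)) (hFs m)
      (H10Coh.isCoh_cokernel (b m) (hFs (m + 1)).1 (hFs m))
    have h3 := H25Euler.euler_congr (k := k) (hopp m hm).some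
    dsimp only at h1 h2
    omega

/-- Higgs fields restrict compatibly along a chain. -/
theorem comm_of_fac {A B E : X.Modules} (hL : PicF.IsInvertible L) {φ : E ⟶ CohB1.tensorMod E L}
    (a : A ⟶ B) (ιA : A ⟶ E) (ιB : B ⟶ E) [Mono ιB] (h : a ≫ ιB = ιA)
    (ψA : A ⟶ CohB1.tensorMod A L) (hA : ψA ≫ tw L ιA = ιA ≫ φ)
    (ψB : B ⟶ CohB1.tensorMod B L) (hB : ψB ≫ tw L ιB = ιB ≫ φ) :
    ψA ≫ tw L a = a ≫ ψB := by
  haveI : Mono ((H10Coh.PF.TR L).map ιB) := mono_tw hL ιB
  rw [← cancel_mono ((H10Coh.PF.TR L).map ιB), Category.assoc, Category.assoc, ← Functor.map_comp, h, hA, hB,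
    reassoc_of% h]

end Groth.Agent.H7Higgs
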